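import Groth.Prelude.Def_ModSite
import Groth.Prelude.Def_AlgSpPerf

/-!
Direct summands of finite free modules on a ringed site with a final object and finite projective
modules over the ring of global sections.
-/

set_option autoImplicit false
set_option backward.isDefEq.respectTransparency false
set_option backward.isDefEq.respectTransparency.types false

universe u

open CategoryTheory Category Limits Opposite

namespace Groth.Agent.FinFreeGlobal

variable {C : Type u} [SmallCategory C] {J : GrothendieckTopology C} (O : Sheaf J CommRingCat.{u})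

local notation "𝓡" => ModSite.ringSh O

noncomputable def secOf {X : C} (hX : IsTerminal X) (M : ModSite.Mod O) (m : M.val.obj (op X)) :
    M.sections :=
  PresheafOfModules.sectionsMk (fun Y => M.val.map (hX.from Y.unop).op m) fun Y Z f => by
    have h : (hX.from Z.unop).op = (hX.from Y.unop).op ≫ f := Quiver.Hom.unop_inj (hX.hom_ext _ _)
    rw [h]
    exact (PresheafOfModules.map_comp_apply M.val _ f m).symm

variable {O}

theorem secOf_eval {X : C} (hX : IsTerminal X) (M : ModSite.Mod O) (m : M.val.obj (op X)) :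
    (secOf O hX M m).1 (op X) = m := by
  have h : (hX.from X).op = 𝟙 (op X) := Quiver.Hom.unop_inj (hX.hom_ext _ _)
  change M.val.map (hX.from X).op m = m
  rw [h]
  exact PresheafOfModules.congr_map_apply M.val rfl m |>.trans (by simp)

theorem sections_ext_terminal {X : C} (hX : IsTerminal X) {M : ModSite.Mod O} (s t : M.sections)
    (h : s.1 (op X) = t.1 (op X)) : s = t := by
  refine PresheafOfModules.sections_ext s t fun Y => ?_
  rw [← PresheafOfModules.sections_property s (hX.from Y.unop).op, h,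
    PresheafOfModules.sections_property t]

variable (O)

/-- The basis element of the global sections of a free module. -/
noncomputable abbrev gen {n : ℕ} (X : C) (j : ULift.{u} (Fin n)) :
    (SheafOfModules.free (R := 𝓡) (ULift.{u} (Fin n))).val.obj (op X) :=
  (SheafOfModules.freeSection (R := 𝓡) j).1 (op X)

variable {O}

theorem freeHom_ext {X : C} (hX : IsTerminal X) {n : ℕ} {M : ModSite.Mod O}
    (f g : SheafOfModules.free (R := 𝓡) (ULift.{u} (Fin n)) ⟶ M)
    (h : ∀ j, f.val.app (op X) (gen O X j) = g.val.app (op X) (gen O X j)) : f = g := by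
  apply M.freeHomEquiv.injective
  funext j
  exact sections_ext_terminal hX _ _ (h j)

theorem exists_freeHom {X : C} (hX : IsTerminal X) {n : ℕ} {M : ModSite.Mod O}
    (m : ULift.{u} (Fin n) → M.val.obj (op X)) :
    ∃ f : SheafOfModules.free (R := 𝓡) (ULift.{u} (Fin n)) ⟶ M,
      ∀ j, f.val.app (op X) (gen O X j) = m j := by
  refine ⟨M.freeHomEquiv.symm fun j => secOf O hX M (m j), fun j => ?_⟩
  have h := SheafOfModules.sectionsMap_freeHomEquiv_symm_freeSection (R := 𝓡)
    (fun j => secOf O hX M (m j)) j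
  exact (congrArg (fun s => s.1 (op X)) h).trans (secOf_eval hX M (m j))

open scoped Classical in
/-- The coordinate projection of a finite free module. -/
noncomputable abbrev proj {n : ℕ} (j : ULift.{u} (Fin n)) :
    SheafOfModules.free (R := 𝓡) (ULift.{u} (Fin n)) ⟶ SheafOfModules.unit 𝓡 :=
  Cofan.IsColimit.desc (SheafOfModules.isColimitFreeCofan _)
    fun k => if k = j then 𝟙 _ else 0

open scoped Classical in
theorem ιFree_proj {n : ℕ} (k j : ULift.{u} (Fin n)) :
    SheafOfModules.ιFree k ≫ proj (O := O) j = if k = j then 𝟙 _ else 0 :=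
  Cofan.IsColimit.fac (SheafOfModules.isColimitFreeCofan _) _ k

theorem sum_proj_ιFree (n : ℕ) :
    ∑ j : ULift.{u} (Fin n), proj (O := O) j ≫ SheafOfModules.ιFree j = 𝟙 _ := by
  classical
  refine Cofan.IsColimit.hom_ext (SheafOfModules.isColimitFreeCofan _) _ _ fun k => ?_
  change SheafOfModules.ιFree k ≫ _ = SheafOfModules.ιFree k ≫ _
  rw [Preadditive.comp_sum, comp_id, Finset.sum_eq_single k]
  · rw [← assoc, ιFree_proj, if_pos rfl, id_comp]
  · intro j _ hj
    rw [← assoc, ιFree_proj, if_neg (Ne.symm hj), zero_comp]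
  · simp

variable (O)

/-- Evaluation of modules at an object. -/
noncomputable abbrev ev (X : C) : ModSite.Mod O ⥤ ModuleCat.{u} ((𝓡).obj.obj (op X)) :=
  SheafOfModules.forget 𝓡 ⋙ PresheafOfModules.evaluation (𝓡).obj (op X)

variable {O}

theorem eq_sum_coord {X : C} {n : ℕ}
    (x : (SheafOfModules.free (R := 𝓡) (ULift.{u} (Fin n))).val.obj (op X)) :
    x = ∑ j, ((proj (O := O) j).val.app (op X) x : (𝓡).obj.obj (op X)) • gen O X j := by
  classical
  have h := congrArg (ev O X).map (sum_proj_ιFree (O := O) n)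
  rw [Functor.map_sum, CategoryTheory.Functor.map_id] at h
  have h' := congrArg (fun φ => φ.hom x) h
  refine h'.symm.trans ?_
  rw [ModuleCat.hom_sum, LinearMap.sum_apply]
  refine Finset.sum_congr rfl fun j _ => ?_
  let r : (𝓡).obj.obj (op X) := (proj (O := O) j).val.app (op X) x
  change ((SheafOfModules.ιFree (R := 𝓡) j).val.app (op X)).hom r = r • gen O X j
  have h1 : r = r • (1 : (𝓡).obj.obj (op X)) := (mul_one r).symm
  conv_lhs => rw [h1]
  refine (map_smul ((SheafOfModules.ιFree (R := 𝓡) j).val.app (op X)).hom r _).trans ?_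
  rfl

theorem hom_ext_gen {X : C} {n : ℕ} {P : ModuleCat.{u} ((𝓡).obj.obj (op X))}
    (f g : (SheafOfModules.free (R := 𝓡) (ULift.{u} (Fin n))).val.obj (op X) →ₗ[(𝓡).obj.obj (op X)] P)
    (h : ∀ j, f (gen O X j) = g (gen O X j)) : f = g := by
  ext x
  rw [eq_sum_coord x, map_sum, map_sum]
  exact Finset.sum_congr rfl fun j _ => by rw [map_smul, map_smul, h j]

theorem free_finite_projective (X : C) (n : ℕ) :
    Module.Finite ((𝓡).obj.obj (op X))
        ((SheafOfModules.free (R := 𝓡) (ULift.{u} (Fin n))).val.obj (op X)) ∧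
      Module.Projective ((𝓡).obj.obj (op X))
        ((SheafOfModules.free (R := 𝓡) (ULift.{u} (Fin n))).val.obj (op X)) := by
  classical
  let F := (SheafOfModules.free (R := 𝓡) (ULift.{u} (Fin n))).val.obj (op X)
  let c : F →ₗ[(𝓡).obj.obj (op X)] (ULift.{u} (Fin n) → (𝓡).obj.obj (op X)) :=
    LinearMap.pi fun j => ((proj (O := O) j).val.app (op X)).hom
  let d : (ULift.{u} (Fin n) → (𝓡).obj.obj (op X)) →ₗ[(𝓡).obj.obj (op X)] F :=
    ∑ j, (LinearMap.proj j).smulRight (gen O X j)
  have hdc : d.comp c = LinearMap.id := by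
    ext x
    refine Eq.trans ?_ (eq_sum_coord x).symm
    simp [d, c]
    rfl
  exact ⟨Module.Finite.of_surjective d fun x => ⟨c x, LinearMap.congr_fun hdc x⟩,
    Module.Projective.of_split c d hdc⟩

theorem bijective_app_of_summand {X : C} (hX : IsTerminal X) {E E' : ModSite.Mod O}
    (hE : DCoh.IsFinFreeSummandMod 𝓡 E) :
    Function.Bijective (fun φ : E ⟶ E' => φ.val.app (op X)) := by
  obtain ⟨n, i, p, hip⟩ := hE
  constructor
  · intro φ ψ h
    have : p ≫ φ = p ≫ ψ := freeHom_ext hX _ _ fun j =>
      congrArg (fun f => f.hom (p.val.app (op X) (gen O X j))) h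
    calc φ = (i ≫ p) ≫ φ := by rw [hip, id_comp]
      _ = (i ≫ p) ≫ ψ := by rw [assoc, this, ← assoc]
      _ = ψ := by rw [hip, id_comp]
  · intro g
    obtain ⟨h, hh⟩ := exists_freeHom hX (M := E') fun j => g.hom (p.val.app (op X) (gen O X j))
    refine ⟨i ≫ h, ?_⟩
    have hph : ((ev O X).map h).hom = g.hom.comp ((ev O X).map p).hom := hom_ext_gen _ _ hh
    ext x
    change h.val.app (op X) (i.val.app (op X) x) = g.hom x
    refine (LinearMap.congr_fun hph _).trans ?_
    exact congrArg g.hom (LinearMap.congr_fun (congrArg ModuleCat.Hom.hom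
      (((ev O X).map_comp i p).symm.trans ((congrArg (ev O X).map hip).trans ((ev O X).map_id E)))) x)

theorem finite_projective_of_summand {X : C} {E : ModSite.Mod O}
    (hE : DCoh.IsFinFreeSummandMod 𝓡 E) :
    Module.Finite ((𝓡).obj.obj (op X)) (E.val.obj (op X)) ∧
      Module.Projective ((𝓡).obj.obj (op X)) (E.val.obj (op X)) := by
  obtain ⟨n, i, p, hip⟩ := hE
  obtain ⟨hf, hp⟩ := free_finite_projective (O := O) X n
  let Pm : (SheafOfModules.free (R := 𝓡) (ULift.{u} (Fin n))).val.obj (op X) →ₗ[(𝓡).obj.obj (op X)]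
      E.val.obj (op X) := (p.val.app (op X)).hom
  let Im : E.val.obj (op X) →ₗ[(𝓡).obj.obj (op X)]
      (SheafOfModules.free (R := 𝓡) (ULift.{u} (Fin n))).val.obj (op X) := (i.val.app (op X)).hom
  have h : Pm.comp Im = LinearMap.id := LinearMap.ext fun x =>
    (congrArg (fun φ : E ⟶ E => (φ.val.app (op X)).hom x) hip)
  exact ⟨Module.Finite.of_surjective Pm fun x => ⟨_, LinearMap.congr_fun h x⟩,
    Module.Projective.of_split Im Pm h⟩

theorem exists_summand {X : C} (hX : IsTerminal X) (M : ModuleCat.{u} ((𝓡).obj.obj (op X)))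
    (hfin : Module.Finite ((𝓡).obj.obj (op X)) M) (hproj : Module.Projective ((𝓡).obj.obj (op X)) M) :
    ∃ E : ModSite.Mod O, DCoh.IsFinFreeSummandMod 𝓡 E ∧ Nonempty (E.val.obj (op X) ≅ M) := by
  classical
  obtain ⟨n, m, hm⟩ := Module.Finite.exists_fin (R := (𝓡).obj.obj (op X)) (M := M)
  let F := SheafOfModules.free (R := 𝓡) (ULift.{u} (Fin n))
  let c : ULift.{u} (Fin n) → F.val.obj (op X) →ₗ[(𝓡).obj.obj (op X)] (𝓡).obj.obj (op X) :=
    fun j => ((proj (O := O) j).val.app (op X)).hom
  let f : F.val.obj (op X) →ₗ[(𝓡).obj.obj (op X)] M := ∑ j, (c j).smulRight (m j.down)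
  have hfg : ∀ k, f (gen O X k) = m k.down := by
    intro k
    simp only [f, LinearMap.sum_apply, LinearMap.smulRight_apply]
    have hpk : ∀ j, c j (gen O X k) =
        if k = j then (1 : (𝓡).obj.obj (op X)) else 0 := by
      intro j
      change (SheafOfModules.ιFree k ≫ proj (O := O) j).val.app (op X) (1 : (𝓡).obj.obj (op X)) = _
      rw [ιFree_proj]
      split <;> rfl
    rw [Finset.sum_eq_single k]
    · rw [hpk, if_pos rfl, one_smul]
    · intro j _ hj
      rw [hpk, if_neg (Ne.symm hj), zero_smul]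
    · simp
  have hfs : Function.Surjective f := by
    rw [← LinearMap.range_eq_top, eq_top_iff, ← hm, Submodule.span_le]
    rintro _ ⟨k, rfl⟩
    exact ⟨gen O X ⟨k⟩, hfg ⟨k⟩⟩
  have := hproj
  obtain ⟨s, hs⟩ := Module.projective_lifting_property f LinearMap.id hfs
  obtain ⟨e', he'⟩ := exists_freeHom hX (M := F) fun j => s (f (gen O X j))
  have hev : ((ev O X).map e').hom = s.comp f := hom_ext_gen _ _ he'
  have hidem : e' ≫ e' = e' := by
    refine freeHom_ext hX _ _ fun j => ?_
    change ((ev O X).map e').hom (((ev O X).map e').hom (gen O X j)) = ((ev O X).map e').hom _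
    rw [hev]
    exact congrArg s (LinearMap.congr_fun hs (f (gen O X j)))
  obtain ⟨E, i, p, hip, hpi⟩ := IsIdempotentComplete.idempotents_split F e' hidem
  refine ⟨E, ⟨n, i, p, hip⟩, ⟨ModuleCat.ofHom (f.comp ((ev O X).map i).hom),
    ModuleCat.ofHom (((ev O X).map p).hom.comp s), ?_, ?_⟩⟩
  · ext x
    change ((ev O X).map p).hom (s (f (((ev O X).map i).hom x))) = x
    rw [show s (f (((ev O X).map i).hom x)) = ((ev O X).map e').hom (((ev O X).map i).hom x) from
      (LinearMap.congr_fun hev _).symm]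
    have h4 : i ≫ e' ≫ p = 𝟙 E := by rw [← hpi, assoc, ← assoc, hip, id_comp]
    exact (congrArg (fun φ : E ⟶ E => (φ.val.app (op X)).hom x) h4)
  · ext x
    change f (((ev O X).map i).hom (((ev O X).map p).hom (s x))) = x
    have h5 : ((ev O X).map i).hom (((ev O X).map p).hom (s x)) = ((ev O X).map e').hom (s x) :=
      congrArg (fun φ => ((ev O X).map φ).hom (s x)) hpi
    rw [h5, hev]
    change f (s (f (s x))) = x
    have h6 : ∀ y, f (s y) = y := fun y => LinearMap.congr_fun hs y
    rw [h6, h6]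

end Groth.Agent.FinFreeGlobal
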